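import Mathlib

set_option autoImplicit false
set_option linter.style.haveILetI false
set_option backward.isDefEq.respectTransparency false
set_option backward.defeqAttrib.useBackward true

/-!
# Universal injectivity into flat modules from injectivity modulo the maximal ideal
-/

universe u

open TensorProduct

namespace Groth.Agent.UnivInjFib

/-- If `x ↦ g x` reflects membership in `I • ⊤` for every ideal, and the target is flat, then `g` is
universally injective. -/
theorem rTensor_injective_of_reflects {R F M : Type u} [CommRing R] [AddCommGroup F] [Module R F]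
    [AddCommGroup M] [Module R M] [Module.Flat R M] (g : F →ₗ[R] M)
    (h : ∀ (I : Ideal R) (x : F), g x ∈ I • (⊤ : Submodule R M) → x ∈ I • (⊤ : Submodule R F))
    (Q : Type u) [AddCommGroup Q] [Module R Q] : Function.Injective (g.rTensor Q) := by
  have hinj : Function.Injective g := by
    rw [injective_iff_map_eq_zero]
    intro x hx
    simpa using h ⊥ x (by rw [hx]; exact Submodule.zero_mem _)
  let π := (LinearMap.range g).mkQ
  have hex : Function.Exact g π := LinearMap.exact_map_mkQ_range g
  have hC : Module.Flat R (M ⧸ LinearMap.range g) := by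
    rw [Module.Flat.iff_lTensor_injective']
    intro I
    rw [injective_iff_map_eq_zero]
    intro w hw
    obtain ⟨w', rfl⟩ := LinearMap.rTensor_surjective I (LinearMap.range g).mkQ_surjective w
    let m := TensorProduct.rid R M (I.subtype.lTensor M w')
    have hm : π m = 0 := by
      have h1 : I.subtype.lTensor (M ⧸ LinearMap.range g) (π.rTensor I w') =
          π.rTensor R (I.subtype.lTensor M w') := by
        rw [← LinearMap.comp_apply, LinearMap.lTensor_comp_rTensor,
          ← LinearMap.rTensor_comp_lTensor, LinearMap.comp_apply]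
      have h2 : ∀ z, TensorProduct.rid R _ (π.rTensor R z) = π (TensorProduct.rid R M z) := by
        intro z
        induction z using TensorProduct.induction_on with
        | zero => simp
        | tmul a b => simp
        | add a b ha hb => simp only [map_add, ha, hb]
      rw [← h2, ← h1, hw, map_zero]
    obtain ⟨x, hx⟩ := (hex m).mp hm
    have hmI : m ∈ I • (⊤ : Submodule R M) := by
      have : ∀ z : M ⊗[R] I, TensorProduct.rid R M (I.subtype.lTensor M z) ∈
          I • (⊤ : Submodule R M) := by
        intro z
        induction z using TensorProduct.induction_on with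
        | zero => simp
        | tmul a b =>
          simpa using Submodule.smul_mem_smul b.2 (Submodule.mem_top : a ∈ (⊤ : Submodule R M))
        | add a b ha hb => simp only [map_add]; exact Submodule.add_mem _ ha hb
      exact this w'
    have hxI := h I x (hx ▸ hmI)
    obtain ⟨x', hx'⟩ : ∃ x' : F ⊗[R] I, TensorProduct.rid R F (I.subtype.lTensor F x') = x := by
      refine Submodule.smul_induction_on hxI (fun r hr y _ => ⟨y ⊗ₜ ⟨r, hr⟩, by simp⟩) ?_
      rintro a b ⟨a', rfl⟩ ⟨b', rfl⟩
      exact ⟨a' + b', by simp⟩
    have hw' : w' = g.rTensor I x' := by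
      apply Module.Flat.lTensor_preserves_injective_linearMap (M := M) I.subtype I.subtype_injective
      apply (TensorProduct.rid R M).injective
      show m = TensorProduct.rid R M (I.subtype.lTensor M (g.rTensor I x'))
      have key : ∀ z, TensorProduct.rid R M (I.subtype.lTensor M (g.rTensor I z)) =
          g (TensorProduct.rid R F (I.subtype.lTensor F z)) := by
        intro z
        induction z using TensorProduct.induction_on with
        | zero => simp
        | tmul a b => simp
        | add a b ha hb => simp only [map_add, ha, hb]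
      rw [key, hx', hx]
    rw [hw', ← LinearMap.comp_apply, ← LinearMap.rTensor_comp, hex.linearMap_comp_eq_zero]
    simp
  rw [← LinearMap.lTensor_inj_iff_rTensor_inj]
  exact LinearMap.lTensor_injective_of_exact_of_flat π (LinearMap.range g).mkQ_surjective g hinj
    hex Q

/-- Free module case. -/
theorem rTensor_injective_of_free {R F M : Type u} [CommRing R] [IsLocalRing R] [AddCommGroup F]
    [Module R F] [Module.Free R F] [AddCommGroup M] [Module R M] [Module.Flat R M] (g : F →ₗ[R] M)
    (h : Function.Injective (g.lTensor (IsLocalRing.ResidueField R)))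
    (Q : Type u) [AddCommGroup Q] [Module R Q] : Function.Injective (g.rTensor Q) := by
  classical
  refine rTensor_injective_of_reflects g (fun I x hx => ?_) Q
  let b := Module.Free.chooseBasis R F
  let s := (b.repr x).support
  let e : (s →₀ R) →ₗ[R] F := Finsupp.linearCombination R fun i : s => b i
  obtain ⟨L, hLe⟩ : ∃ L : F →ₗ[R] (s →₀ R), L ∘ₗ e = LinearMap.id :=
    ⟨(Finsupp.lcomapDomain (Subtype.val : s → _) Subtype.val_injective) ∘ₗ b.repr.toLinearMap, by
      refine Finsupp.lhom_ext fun i r => ?_
      simp [e, Finsupp.lcomapDomain]⟩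
  have he : Function.Injective (g ∘ₗ e |>.lTensor (IsLocalRing.ResidueField R)) := by
    rw [LinearMap.lTensor_comp]
    refine h.comp (Function.HasLeftInverse.injective ⟨L.lTensor _, fun z => ?_⟩)
    rw [← LinearMap.comp_apply, ← LinearMap.lTensor_comp, hLe, LinearMap.lTensor_id,
      LinearMap.id_apply]
  obtain ⟨c, hc⟩ : ∃ c, e c = x := by
    refine ⟨Finsupp.equivFunOnFinite.symm fun i : s => b.repr x i.1, ?_⟩
    rw [show e = Finsupp.linearCombination R fun i : s => b i from rfl, Finsupp.linearCombination_apply,
      Finsupp.sum_fintype _ _ (fun i => by simp)]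
    exact (Finset.sum_coe_sort s fun i => b.repr x i • b i).trans (b.linearCombination_repr x)
  rw [← hc] at hx ⊢
  obtain ⟨t, ht⟩ := (Submodule.mem_ideal_smul_span_iff_exists_sum I id (g (e c))).mp (by
    rwa [Set.range_id, Submodule.span_univ])
  obtain ⟨ht1, ht2⟩ := ht
  let N := (s →₀ R) × (t.support →₀ R)
  let χ : N →ₗ[R] M := (g ∘ₗ e).coprod (Finsupp.linearCombination R fun m : t.support => m.1)
  let d : t.support →₀ R := Finsupp.equivFunOnFinite.symm fun m => t m.1
  have hχ : χ (c, -d) = 0 := by
    show (g ∘ₗ e) c + Finsupp.linearCombination R (fun m : t.support => m.1) (-d) = 0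
    rw [LinearMap.comp_apply, map_neg, ← sub_eq_add_neg, sub_eq_zero, ← ht2, Finsupp.linearCombination_apply,
      Finsupp.sum_fintype d _ (fun i => by simp)]
    simp only [d, Finsupp.coe_equivFunOnFinite_symm, Finsupp.sum, id_eq]
    exact (Finset.sum_coe_sort t.support fun m => t m • m).symm
  obtain ⟨k, a, y, hya, haf⟩ := Module.Flat.exists_factorization_of_apply_eq_zero_of_free hχ
  let a₁ := a ∘ₗ LinearMap.inl R _ _
  have ha₁ : Function.Injective (a₁.lTensor (IsLocalRing.ResidueField R)) := by
    have : g ∘ₗ e = y ∘ₗ a₁ := by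
      rw [← LinearMap.comp_assoc, ← hya]
      exact (LinearMap.coprod_inl _ _).symm
    rw [this, LinearMap.lTensor_comp, LinearMap.coe_comp] at he
    exact he.of_comp
  obtain ⟨l, hl⟩ := (IsLocalRing.split_injective_iff_lTensor_residueField_injective a₁).mpr ha₁
  have h1 : c = l (a (0, d)) := by
    have h2 : a (c, -d) = a (c, 0) - a (0, d) := by
      rw [← map_sub, Prod.mk_sub_mk, sub_zero, zero_sub]
    rw [h2, sub_eq_zero] at haf
    rw [← haf]
    exact (LinearMap.congr_fun hl c).symm
  have hd : (0, d) ∈ I • (⊤ : Submodule R N) := by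
    have h3 : (0, d) = ∑ m : t.support, d m • ((0 : s →₀ R), Finsupp.single m (1 : R)) := by
      refine Prod.ext ?_ ?_
      · simp [Prod.fst_sum]
      · simp only [Prod.snd_sum, Prod.smul_snd, Finsupp.smul_single, smul_eq_mul, mul_one]
        exact (Finsupp.univ_sum_single d).symm
    rw [h3]
    exact Submodule.sum_mem _ fun m _ => Submodule.smul_mem_smul (ht1 m.1) Submodule.mem_top
  have h4 := Submodule.mem_map_of_mem (f := e ∘ₗ l ∘ₗ a) hd
  rw [Submodule.map_smul''] at h4
  rw [show e c = (e ∘ₗ l ∘ₗ a) (0, d) from congrArg e h1]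
  exact Submodule.smul_mono le_rfl le_top h4

theorem eq_zero_of_smul_top {R P : Type u} [CommRing R] [AddCommGroup P] [Module R P] (J : Ideal R)
    (hJ : IsNilpotent J) (h : (J • ⊤ : Submodule R P) = ⊤) (p : P) : p = 0 := by
  obtain ⟨k, hk⟩ := hJ
  have : ∀ i : ℕ, (J ^ i • ⊤ : Submodule R P) = ⊤ := by
    intro i
    induction i with
    | zero => simp
    | succ i ih => rw [pow_succ, Submodule.mul_smul, h, ih]
  have h0 := this k
  rw [hk, Submodule.zero_eq_bot, Submodule.bot_smul] at h0
  have : p ∈ (⊥ : Submodule R P) := h0.symm ▸ Submodule.mem_top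
  simpa using this

theorem injective_of_exact_lTensor_quotient {R K G F : Type u} [CommRing R] [AddCommGroup K]
    [Module R K] [AddCommGroup G] [Module R G] [AddCommGroup F] [Module R F] [Module.Flat R F]
    (J : Ideal R) (hJ : IsNilpotent J) (i : K →ₗ[R] G) (hi : Function.Injective i) (φ : G →ₗ[R] F)
    (hex : Function.Exact i φ) (hsurj : Function.Surjective φ)
    (h : Function.Injective (φ.lTensor (R ⧸ J))) (x : K) : x = 0 := by
  have h1 : Function.Injective (i.lTensor (R ⧸ J)) :=
    LinearMap.lTensor_injective_of_exact_of_flat φ hsurj i hi hex (R ⧸ J)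
  refine eq_zero_of_smul_top J hJ (eq_top_iff.mpr fun p _ => ?_) x
  rw [← Submodule.Quotient.mk_eq_zero]
  apply (TensorProduct.quotTensorEquivQuotSMul K J).symm.injective
  rw [map_zero, TensorProduct.quotTensorEquivQuotSMul_symm_mk]
  apply h1
  apply h
  rw [← LinearMap.comp_apply, ← LinearMap.lTensor_comp, hex.linearMap_comp_eq_zero]
  simp

theorem injective_of_lTensor_quotient {R G F : Type u} [CommRing R]
    [AddCommGroup G] [Module R G] [AddCommGroup F] [Module R F] [Module.Flat R F]
    (J : Ideal R) (hJ : IsNilpotent J) (φ : G →ₗ[R] F) (hsurj : Function.Surjective φ)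
    (h : Function.Injective (φ.lTensor (R ⧸ J))) : Function.Injective φ := by
  rw [← LinearMap.ker_eq_bot, Submodule.eq_bot_iff]
  intro x hx
  exact congrArg Subtype.val (injective_of_exact_lTensor_quotient J hJ (LinearMap.ker φ).subtype
    Subtype.val_injective φ (LinearMap.exact_subtype_ker_map φ) hsurj h ⟨x, hx⟩)

/-- Flat modules which are free modulo a nilpotent ideal are free. -/
theorem free_of_nilpotent {R F : Type u} [CommRing R] [AddCommGroup F] [Module R F] [Module.Flat R F]
    (J : Ideal R) (hJ : IsNilpotent J) [Module.Free (R ⧸ J) ((R ⧸ J) ⊗[R] F)] :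
    Module.Free R F := by
  classical
  obtain ⟨k, hk⟩ := hJ
  let b := Module.Free.chooseBasis (R ⧸ J) ((R ⧸ J) ⊗[R] F)
  choose v hv using fun i =>
    TensorProduct.mk_surjective (R := R) (M := F) (S := R ⧸ J) Ideal.Quotient.mk_surjective (b i)
  let φ : (Module.Free.ChooseBasisIndex (R ⧸ J) ((R ⧸ J) ⊗[R] F) →₀ R) →ₗ[R] F :=
    Finsupp.linearCombination R v
  have hφb : ∀ x, φ.lTensor (R ⧸ J) x =
      b.repr.symm (TensorProduct.finsuppScalarRight R (R ⧸ J) (R ⧸ J) _ x) := by
    intro x
    induction x using TensorProduct.induction_on with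
    | zero => simp
    | tmul r f =>
      induction f using Finsupp.induction_linear with
      | zero => simp
      | add f₁ f₂ h₁ h₂ => simp only [TensorProduct.tmul_add, map_add, h₁, h₂]
      | single i a =>
        simp only [φ, LinearMap.lTensor_tmul, Finsupp.linearCombination_single,
          TensorProduct.finsuppScalarRight_apply_tmul, Finsupp.sum_single_index, zero_smul,
          Finsupp.single_zero, Module.Basis.repr_symm_apply, Finsupp.linearCombination_single]
        rw [← hv i, TensorProduct.tmul_smul, smul_tmul']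
        show _ = (a • r) • ((1 : R ⧸ J) ⊗ₜ[R] v i)
        rw [TensorProduct.smul_tmul', smul_eq_mul, mul_one]
    | add x y hx hy => simp only [map_add, hx, hy]
  have hsurj : Function.Surjective φ := by
    have h1 : ∀ p : F ⧸ LinearMap.range φ, p = 0 := by
      refine eq_zero_of_smul_top J ⟨k, hk⟩ (eq_top_iff.mpr fun p _ => ?_)
      obtain ⟨f, rfl⟩ := Submodule.Quotient.mk_surjective _ p
      obtain ⟨c, hc⟩ : ∃ c, φ.lTensor (R ⧸ J) c = (1 : R ⧸ J) ⊗ₜ f :=
        ⟨(TensorProduct.finsuppScalarRight R (R ⧸ J) (R ⧸ J) _).symm (b.repr ((1 : R ⧸ J) ⊗ₜ f)), by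
          rw [hφb, LinearEquiv.apply_symm_apply, LinearEquiv.symm_apply_apply]⟩
      obtain ⟨c', rfl⟩ := TensorProduct.mk_surjective (R := R) (S := R ⧸ J)
        (M := _ →₀ R) Ideal.Quotient.mk_surjective c
      have h2 : f - φ c' ∈ J • (⊤ : Submodule R F) := by
        rw [← Submodule.Quotient.mk_eq_zero]
        apply (TensorProduct.quotTensorEquivQuotSMul F J).symm.injective
        rw [map_zero, TensorProduct.quotTensorEquivQuotSMul_symm_mk, TensorProduct.tmul_sub,
          ← hc]
        simp
      have h3 := Submodule.mem_map_of_mem (f := (LinearMap.range φ).mkQ) h2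
      rw [Submodule.map_smul'', map_sub, Submodule.mkQ_apply, Submodule.mkQ_apply,
        (Submodule.Quotient.mk_eq_zero _).mpr (LinearMap.mem_range_self φ c'), sub_zero] at h3
      exact Submodule.smul_mono le_rfl le_top h3
    intro f
    exact (Submodule.Quotient.mk_eq_zero _).mp (h1 (Submodule.Quotient.mk f))
  have hinj : Function.Injective φ := by
    refine injective_of_lTensor_quotient J ⟨k, hk⟩ φ hsurj fun x y hxy => ?_
    rw [hφb, hφb] at hxy
    exact (TensorProduct.finsuppScalarRight R (R ⧸ J) (R ⧸ J) _).injective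
      (b.repr.symm.injective hxy)
  exact Module.Free.of_equiv (LinearEquiv.ofBijective φ ⟨hinj, hsurj⟩)

end Groth.Agent.UnivInjFib
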