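import Groth.Agent.FlatLocus.Descent
import Groth.Agent.UnivInjFib.Local

set_option autoImplicit false
set_option linter.style.haveILetI false
set_option backward.isDefEq.respectTransparency false
set_option backward.defeqAttrib.useBackward true

/-!
# Presented modules over a polynomial ring as base changes
-/

universe u

open MvPolynomial TensorProduct Groth.Agent.GenFree Groth.Agent.FlatLocus

namespace Groth.Agent.UnivInjFib

variable {A0 A : Type u} [CommRing A0] [CommRing A] [Algebra A0 A] {a n : ℕ}

theorem mem_range_of_mem_span (N0 : Submodule (MvPolynomial (Fin n) A0) (FreeMod A0 a n))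
    {y : FreeMod A a n} (hy : y ∈ Submodule.span A (phi A '' (N0 : Set (FreeMod A0 a n)))) :
    ∃ w : N0.restrictScalars A0 ⊗[A0] A, extMap A ((N0.restrictScalars A0).subtype.rTensor A w) = y := by
  induction hy using Submodule.span_induction with
  | mem x hx =>
    obtain ⟨v, hv, rfl⟩ := hx
    exact ⟨⟨v, hv⟩ ⊗ₜ 1, by simp⟩
  | zero => exact ⟨0, by simp⟩
  | add x y _ _ hx hy =>
    obtain ⟨w, rfl⟩ := hx
    obtain ⟨w', rfl⟩ := hy
    exact ⟨w + w', by simp⟩
  | smul c x _ hx =>
    obtain ⟨w, rfl⟩ := hx
    refine ⟨TensorProduct.comm A0 _ _ (c • TensorProduct.comm A0 _ _ w), ?_⟩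
    have key : ∀ u : N0.restrictScalars A0 ⊗[A0] A,
        extMap A ((N0.restrictScalars A0).subtype.rTensor A
          (TensorProduct.comm A0 _ _ (c • TensorProduct.comm A0 _ _ u))) =
        c • extMap A ((N0.restrictScalars A0).subtype.rTensor A u) := by
      intro u
      induction u using TensorProduct.induction_on with
      | zero => simp
      | tmul v d => simp [smul_tmul', mul_smul]
      | add u v hu hv => simp only [map_add, smul_add, hu, hv]
    exact key w

/-- A presented module as a base change. -/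
theorem exists_baseChange_equiv (N0 : Submodule (MvPolynomial (Fin n) A0) (FreeMod A0 a n)) :
    Nonempty (A ⊗[A0] (FreeMod A0 a n ⧸ N0) ≃ₗ[A] FreeMod A a n ⧸ locN A N0) := by
  let L := LinearMap.liftBaseChange A (psi A N0)
  refine ⟨LinearEquiv.ofBijective L ⟨?_, ?_⟩⟩
  · rw [injective_iff_map_eq_zero]
    intro z hz
    obtain ⟨z', rfl⟩ : ∃ z' : FreeMod A0 a n ⊗[A0] A,
        TensorProduct.comm A0 _ _ ((N0.mkQ.restrictScalars A0).rTensor A z') = z := by
      obtain ⟨z', hz'⟩ := LinearMap.rTensor_surjective A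
        (g := N0.mkQ.restrictScalars A0) N0.mkQ_surjective (TensorProduct.comm A0 _ _ z)
      exact ⟨z', by rw [hz']; simp⟩
    have key : ∀ z', L (TensorProduct.comm A0 _ _ ((N0.mkQ.restrictScalars A0).rTensor A z')) =
        Submodule.Quotient.mk (extMap A z') := by
      intro z'
      induction z' using TensorProduct.induction_on with
      | zero => simp
      | tmul v c =>
        simp [L, psi_mk, Submodule.Quotient.mk_smul]
      | add u v hu hv => simp only [map_add, hu, hv, Submodule.Quotient.mk_add]
    rw [key, Submodule.Quotient.mk_eq_zero] at hz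
    obtain ⟨w, hw⟩ := mem_range_of_mem_span N0 (mem_span_of_mem_locN A N0 hz)
    rw [← extMap_injective A hw, ← LinearMap.comp_apply, ← LinearMap.rTensor_comp,
      show (N0.mkQ.restrictScalars A0) ∘ₗ (N0.restrictScalars A0).subtype = 0 from
        LinearMap.ext fun x => (Submodule.Quotient.mk_eq_zero _).mpr x.2]
    simp
  · intro y
    obtain ⟨v, rfl⟩ := Submodule.Quotient.mk_surjective _ y
    obtain ⟨z', rfl⟩ : ∃ z' : FreeMod A0 a n ⊗[A0] A, extMap A z' = v := by
      refine ⟨∑ i ∈ (finite_support v).toFinset, single i ⊗ₜ[A0] co i v, ?_⟩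
      simp only [map_sum, extMap_tmul, phi_single]
      exact (eq_sum_single v fun i hi => (finite_support v).mem_toFinset.mpr hi).symm
    induction z' using TensorProduct.induction_on with
    | zero => exact ⟨0, by simp⟩
    | tmul v c => exact ⟨c ⊗ₜ Submodule.Quotient.mk v, by simp [L, psi_mk, Submodule.Quotient.mk_smul]⟩
    | add u v hu hv =>
      obtain ⟨x, hx⟩ := hu
      obtain ⟨y, hy⟩ := hv
      exact ⟨x + y, by simp only [map_add, hx, hy, Submodule.Quotient.mk_add]⟩

/-- Base changes from a field are free; `A → R₁` factors through the residue field of `p0`. -/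
theorem free_tensor_of_factor {X : Type u} [AddCommGroup X] [Module A0 X] {F : Type u}
    [AddCommGroup F] [Module A F] (e : F ≃ₗ[A] A ⊗[A0] X) (p0 : Ideal A0) [p0.IsPrime]
    (R₁ : Type u) [CommRing R₁] [Algebra A R₁] [Algebra A0 R₁] [IsScalarTower A0 A R₁]
    (h0 : ∀ c ∈ p0, algebraMap A0 R₁ c = 0) (h1 : ∀ c ∉ p0, IsUnit (algebraMap A0 R₁ c)) :
    Module.Free R₁ (R₁ ⊗[A] F) := by
  let ι : p0.ResidueField →+* R₁ :=
    Ideal.ResidueField.lift p0 (algebraMap A0 R₁) (fun c hc => h0 c hc) fun c hc => h1 c hc
  letI := ι.toAlgebra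
  haveI : IsScalarTower A0 p0.ResidueField R₁ := .of_algebraMap_eq fun c =>
    (Ideal.ResidueField.lift_algebraMap _ _ _ _ _).symm
  exact Module.Free.of_equiv ((AlgebraTensorModule.congr (LinearEquiv.refl R₁ R₁) e).trans
    ((AlgebraTensorModule.cancelBaseChange A0 A R₁ R₁ X).trans
      (AlgebraTensorModule.cancelBaseChange A0 p0.ResidueField R₁ R₁ X).symm)).symm

end Groth.Agent.UnivInjFib
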