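import Mathlib

set_option autoImplicit false
set_option linter.style.haveILetI false
set_option backward.isDefEq.respectTransparency false
set_option backward.defeqAttrib.useBackward true

/-!
# Finitely presented modules over a localization come from the ring
-/

universe u

open TensorProduct

namespace Groth.Agent.UnivInjFib

/-- A finitely presented module over a localization is a localization of a finitely presented one. -/
theorem exists_model {B : Type u} [CommRing B] (T : Submonoid B) (N : Type u) [AddCommGroup N]
    [Module (Localization T) N] [Module B N] [IsScalarTower B (Localization T) N]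
    [Module.FinitePresentation (Localization T) N] :
    ∃ (N1 : Type u) (_ : AddCommGroup N1) (_ : Module B N1) (g : N1 →ₗ[B] N),
      Module.FinitePresentation B N1 ∧ IsLocalizedModule T g := by
  classical
  let L := Localization T
  obtain ⟨a, K₀, e₀, hK₀⟩ := Module.FinitePresentation.exists_fin L N
  let ef := (Finsupp.linearEquivFunOnFinite L L (Fin a)).symm
  let K : Submodule L (Fin a →₀ L) := K₀.map ef.toLinearMap
  let e : N ≃ₗ[L] (Fin a →₀ L) ⧸ K := e₀.trans (Submodule.Quotient.equiv K₀ K ef rfl)
  have hK : K.FG := hK₀.map _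
  obtain ⟨k, w, hw⟩ := Submodule.fg_iff_exists_fin_generating_family.mp hK
  let f : (Fin a →₀ B) →ₗ[B] (Fin a →₀ L) := Finsupp.mapRange.linearMap (Algebra.linearMap B L)
  haveI : IsLocalizedModule T f := inferInstance
  choose p hp using fun i => IsLocalizedModule.surj T f (w i)
  let K1 : Submodule B (Fin a →₀ B) := Submodule.span B (Set.range fun i => (p i).1)
  have hloc : K1.localized' L T f = K := by
    rw [Submodule.localized'_span, ← hw]
    refine le_antisymm (Submodule.span_le.mpr ?_) (Submodule.span_le.mpr ?_)
    · rintro _ ⟨_, ⟨i, rfl⟩, rfl⟩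
      rw [← hp i, Submonoid.smul_def, SetLike.mem_coe, ← algebraMap_smul L ((p i).2 : B)]
      exact Submodule.smul_mem _ _ (Submodule.subset_span ⟨i, rfl⟩)
    · rintro _ ⟨i, rfl⟩
      obtain ⟨c, hc⟩ := IsLocalization.map_units L (p i).2
      have h1 : w i = (↑c⁻¹ : L) • f (p i).1 := by
        rw [← hp i, Submonoid.smul_def, ← algebraMap_smul L ((p i).2 : B), ← hc, smul_smul,
          Units.inv_mul, one_smul]
      rw [SetLike.mem_coe, h1]
      exact Submodule.smul_mem _ _ (Submodule.subset_span (Set.mem_image_of_mem f ⟨i, rfl⟩))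
  let eq' : ((Fin a →₀ L) ⧸ K1.localized' L T f) ≃ₗ[B] N :=
    ((Submodule.quotEquivOfEq _ _ hloc).trans e.symm).restrictScalars B
  refine ⟨(Fin a →₀ B) ⧸ K1, inferInstance, inferInstance,
    eq'.toLinearMap ∘ₗ K1.toLocalizedQuotient' L T f, ?_, IsLocalizedModule.of_linearEquiv T _ _⟩
  exact Module.finitePresentation_of_surjective K1.mkQ K1.mkQ_surjective
    (by rw [Submodule.ker_mkQ]; exact Submodule.fg_span (Set.finite_range _))

end Groth.Agent.UnivInjFib
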