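import Groth.Agent.UnivInjFib.BaseChange
import Groth.Agent.UnivInjFib.Model
import Groth.Agent.FlatLocus.Gen

set_option autoImplicit false
set_option linter.style.haveILetI false
set_option backward.isDefEq.respectTransparency false
set_option backward.defeqAttrib.useBackward true

/-!
# Universal injectivity from injectivity on fibres
-/

universe u

open TensorProduct Groth.Agent.GenFree Groth.Agent.FlatLocus

namespace Groth.Agent.UnivInjFib

section Core

variable {A R : Type u} [CommRing A] [CommRing R] [Algebra A R]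

/-- Injectivity on modules over a local algebra, for a flat module free modulo a nilpotent ideal. -/
theorem core [IsLocalRing R] (J : Ideal R) (hJ : IsNilpotent J) {F M : Type u} [AddCommGroup F]
    [Module A F] [Module.Flat A F] [Module.Free (R ⧸ J) ((R ⧸ J) ⊗[A] F)] [AddCommGroup M]
    [Module A M] [Module.Flat A M] (g : F →ₗ[A] M)
    (h : Function.Injective (g.lTensor (IsLocalRing.ResidueField R)))
    (Q : Type u) [AddCommGroup Q] [Module R Q] [Module A Q] [IsScalarTower A R Q] :
    Function.Injective (g.lTensor Q) := by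
  haveI : Module.Free (R ⧸ J) ((R ⧸ J) ⊗[R] (R ⊗[A] F)) :=
    Module.Free.of_equiv (AlgebraTensorModule.cancelBaseChange A R (R ⧸ J) (R ⧸ J) F).symm
  haveI : Module.Free R (R ⊗[A] F) := free_of_nilpotent J hJ
  let g' : R ⊗[A] F →ₗ[R] R ⊗[A] M := AlgebraTensorModule.lTensor R R g
  have transfer : ∀ (P : Type u) [AddCommGroup P] [Module R P] [Module A P] [IsScalarTower A R P],
      Function.Injective (g'.lTensor P) ↔ Function.Injective (g.lTensor P) := by
    intro P _ _ _ _
    have h1 := AlgebraTensorModule.lTensor_comp_cancelBaseChange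
      (R := A) (A := R) (B := R) (M := P) g
    let eF := AlgebraTensorModule.cancelBaseChange A R R P F
    let eM := AlgebraTensorModule.cancelBaseChange A R R P M
    have h2 : ∀ x, g.lTensor P (eF x) = eM (g'.lTensor P x) := fun x => LinearMap.congr_fun h1 x
    constructor
    · intro hi x y hxy
      obtain ⟨x', rfl⟩ := eF.surjective x
      obtain ⟨y', rfl⟩ := eF.surjective y
      rw [h2, h2] at hxy
      exact congrArg eF (hi (eM.injective hxy))
    · intro hi x y hxy
      apply eF.injective
      apply hi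
      rw [h2, h2, hxy]
  refine (transfer Q).mp ((LinearMap.lTensor_inj_iff_rTensor_inj _ _).mpr ?_)
  exact rTensor_injective_of_free g' ((transfer _).mpr h) Q

end Core

variable {A : Type u} [CommRing A]

theorem mk_descended {A0 : Type u} [CommRing A0] [Algebra A0 A] [IsNoetherianRing A0] {a n : ℕ}
    (N0 : Submodule (MvPolynomial (Fin n) A0) (FreeMod A0 a n)) {F : Type u} [AddCommGroup F]
    [Module A F] (e : F ≃ₗ[A] FreeMod A a n ⧸ locN A N0) :
    ∃ (A0 : Type u) (_ : CommRing A0) (_ : Algebra A0 A) (X : Type u) (_ : AddCommGroup X)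
      (_ : Module A0 X), IsNoetherianRing A0 ∧ Nonempty (F ≃ₗ[A] A ⊗[A0] X) := by
  obtain ⟨e'⟩ := exists_baseChange_equiv (A := A) N0
  exact ⟨A0, inferInstance, inferInstance, FreeMod A0 a n ⧸ N0, inferInstance, inferInstance, ‹_›,
    ⟨e.trans e'.symm⟩⟩

/-- A presented module over a finitely presented algebra is a base change from a Noetherian ring. -/
theorem exists_descended (B : Type u) [CommRing B] [Algebra A B] [Algebra.FinitePresentation A B]
    (F : Type u) [AddCommGroup F] [Module B F] [Module A F] [IsScalarTower A B F]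
    [Module.FinitePresentation B F] :
    ∃ (A0 : Type u) (_ : CommRing A0) (_ : Algebra A0 A) (X : Type u) (_ : AddCommGroup X)
      (_ : Module A0 X), IsNoetherianRing A0 ∧ Nonempty (F ≃ₗ[A] A ⊗[A0] X) := by
  obtain ⟨n, π, hπ, hker⟩ := Algebra.FinitePresentation.out (R := A) (A := B)
  letI : Algebra (MvPolynomial (Fin n) A) B := π.toRingHom.toAlgebra
  haveI : IsScalarTower A (MvPolynomial (Fin n) A) B :=
    .of_algebraMap_eq fun r => (π.commutes r).symm
  letI : Module (MvPolynomial (Fin n) A) F := Module.compHom F π.toRingHom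
  haveI : IsScalarTower (MvPolynomial (Fin n) A) B F := .of_algebraMap_smul fun _ _ => rfl
  haveI : IsScalarTower A (MvPolynomial (Fin n) A) F := .of_algebraMap_smul fun r m => by
    show π (algebraMap A (MvPolynomial (Fin n) A) r) • m = r • m
    rw [π.commutes, algebraMap_smul]
  haveI : Module.FinitePresentation (MvPolynomial (Fin n) A) B :=
    Module.finitePresentation_of_surjective (Algebra.linearMap (MvPolynomial (Fin n) A) B) hπ hker
  haveI : Module.FinitePresentation (MvPolynomial (Fin n) A) F :=
    Module.FinitePresentation.trans (R := MvPolynomial (Fin n) A) (S := B) (M := F)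
  obtain ⟨a, K, e, hK⟩ := Module.FinitePresentation.exists_fin (MvPolynomial (Fin n) A) F
  obtain ⟨S, N0, hS, rfl⟩ := exists_base K hK
  haveI := hS
  exact mk_descended N0 (e.restrictScalars A)

section Reduce

variable {N M Q : Type u} [AddCommGroup N] [Module A N] [AddCommGroup M] [Module A M]
  [AddCommGroup Q] [Module A Q]

/-- Localize at a minimal prime over the annihilator. -/
theorem exists_localized_kernel (u : N →ₗ[A] M) {z : N ⊗[A] Q} (hu : u.rTensor Q z = 0)
    (hz : z ≠ 0) :
    ∃ (p : Ideal A) (_ : p.IsPrime) (z₂ : N ⊗[A] LocalizedModule p.primeCompl Q), z₂ ≠ 0 ∧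
      u.rTensor _ z₂ = 0 ∧ ∀ a ∈ p, ∃ k : ℕ, a ^ k • z₂ = 0 := by
  let ann : Ideal A := LinearMap.ker (LinearMap.toSpanSingleton A (N ⊗[A] Q) z)
  have hne : ann ≠ ⊤ := fun h => hz (by
    have : (1 : A) ∈ ann := h ▸ Submodule.mem_top
    simpa [ann] using this)
  obtain ⟨p, hp⟩ := Ideal.nonempty_minimalPrimes hne
  haveI := hp.isPrime
  let mk := LocalizedModule.mkLinearMap p.primeCompl Q
  refine ⟨p, hp.isPrime, mk.lTensor N z, fun h0 => ?_, ?_, fun a ha => ?_⟩
  · have h1 : AlgebraTensorModule.rTensor A N mk (TensorProduct.comm A N Q z) = 0 := by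
      have key : ∀ y : N ⊗[A] Q, TensorProduct.comm A N _ (mk.lTensor N y) =
          AlgebraTensorModule.rTensor A N mk (TensorProduct.comm A N Q y) := by
        intro y
        induction y using TensorProduct.induction_on with
        | zero => simp
        | tmul n q => simp
        | add x y hx hy => simp only [map_add, hx, hy]
      have h2 := key z
      rw [← h2, h0, map_zero]
    obtain ⟨s, hs⟩ := (IsLocalizedModule.eq_zero_iff p.primeCompl _).mp h1
    refine s.2 (hp.1.2 ?_)
    show (s : A) • z = 0
    apply (TensorProduct.comm A N Q).injective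
    rw [map_smul, map_zero]
    exact hs
  · rw [← LinearMap.comp_apply, LinearMap.rTensor_comp_lTensor, ← LinearMap.lTensor_comp_rTensor,
      LinearMap.comp_apply, hu, map_zero]
  · have h1 : algebraMap A (Localization.AtPrime p) a ∈
        (ann.map (algebraMap A (Localization.AtPrime p))).radical := by
      rw [IsLocalization.AtPrime.radical_map_of_mem_minimalPrimes (Localization.AtPrime p) p ann hp]
      exact Ideal.mem_map_of_mem _ ha
    obtain ⟨k, hk⟩ := h1
    rw [← map_pow, IsLocalization.algebraMap_mem_map_algebraMap_iff p.primeCompl] at hk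
    obtain ⟨s, hs, hsk⟩ := hk
    refine ⟨k, ?_⟩
    have h2 : (s * a ^ k) • z = 0 := hsk
    have h3 : s • (a ^ k • mk.lTensor N z) = 0 := by
      rw [smul_smul, ← map_smul, h2, map_zero]
    obtain ⟨c, hc⟩ := IsLocalizedModule.map_units mk ⟨s, hs⟩
    have h4 := congrArg ((c⁻¹ : (Module.End A (LocalizedModule p.primeCompl Q))ˣ).1.lTensor N) h3
    have h5 : ∀ y : N ⊗[A] LocalizedModule p.primeCompl Q,
        (c⁻¹ : (Module.End A (LocalizedModule p.primeCompl Q))ˣ).1.lTensor N (s • y) = y := by
      intro y
      induction y using TensorProduct.induction_on with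
      | zero => simp
      | tmul n q =>
        rw [← TensorProduct.tmul_smul, LinearMap.lTensor_tmul]
        congr 1
        have h6 : c.1 q = s • q := by rw [hc]; rfl
        rw [← h6, ← Module.End.mul_apply, Units.inv_mul, Module.End.one_apply]
      | add x y hx hy => simp only [smul_add, map_add, hx, hy]
    rwa [h5, map_zero] at h4

end Reduce

/-- The kernel of the map to a localization is killed by one element on the fibre. -/
theorem exists_kill_fibre {B : Type u} [CommRing B] [Algebra A B] [Algebra.FiniteType A B]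
    (T : Submonoid B) {N1 N : Type u} [AddCommGroup N1] [Module B N1] [Module A N1]
    [IsScalarTower A B N1] [Module.Finite B N1] [AddCommGroup N] [Module B N] [Module A N]
    [IsScalarTower A B N] (g : N1 →ₗ[B] N) [IsLocalizedModule T g] (K : Type u) [Field K]
    [Algebra A K] :
    ∃ t ∈ T, ∀ y : N1 ⊗[A] K, AlgebraTensorModule.rTensor A K g y = 0 → t • y = 0 := by
  classical
  let C := B ⊗[A] K
  letI : Algebra K C := Algebra.TensorProduct.rightAlgebra
  haveI : Algebra.FiniteType K C :=
    Algebra.FiniteType.equiv (inferInstance : Algebra.FiniteType K (K ⊗[A] B))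
      (AlgEquiv.ofRingEquiv (f := (Algebra.TensorProduct.comm A K B).toRingEquiv)
        (fun r => by simp [C, RingHom.algebraMap_toAlgebra]))
  haveI : IsNoetherianRing C := Algebra.FiniteType.isNoetherianRing K C
  haveI : IsNoetherian C (C ⊗[B] N1) := isNoetherian_of_isNoetherianRing_of_finite C _
  obtain ⟨G, hG⟩ := IsNoetherian.noetherian (LinearMap.ker (AlgebraTensorModule.lTensor C C g))
  let e₁ : C ⊗[B] N1 ≃ₗ[B] N1 ⊗[A] K :=
    (TensorProduct.comm B C N1).trans (AlgebraTensorModule.cancelBaseChange A B B N1 K)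
  let e₂ : C ⊗[B] N ≃ₗ[B] N ⊗[A] K :=
    (TensorProduct.comm B C N).trans (AlgebraTensorModule.cancelBaseChange A B B N K)
  have hcomm : ∀ y, AlgebraTensorModule.rTensor A K g (e₁ y) = e₂ (g.lTensor C y) := by
    intro y
    induction y using TensorProduct.induction_on with
    | zero => simp
    | tmul c m =>
      induction c using TensorProduct.induction_on with
      | zero => simp
      | tmul b x =>
        simp [C, e₁, e₂]
      | add x y hx hy => simp only [TensorProduct.add_tmul, map_add, hx, hy]
    | add x y hx hy => simp only [map_add, hx, hy]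
  have hkill : ∀ σ ∈ G, ∃ s ∈ T, s • σ = 0 := by
    intro σ hσ
    have h1 : AlgebraTensorModule.rTensor A K g (e₁ σ) = 0 := by
      have : σ ∈ LinearMap.ker (AlgebraTensorModule.lTensor C C g) := hG ▸ Submodule.subset_span hσ
      rw [hcomm, show g.lTensor C σ = 0 from this, map_zero]
    obtain ⟨s, hs⟩ := (IsLocalizedModule.eq_zero_iff T (AlgebraTensorModule.rTensor A K g)).mp h1
    exact ⟨s.1, s.2, e₁.injective (by rw [map_smul, map_zero]; exact hs)⟩
  choose s hs hsm using hkill
  refine ⟨∏ σ : G, s σ.1 σ.2, T.prod_mem fun σ _ => hs σ.1 σ.2, fun y hy => ?_⟩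
  obtain ⟨y, rfl⟩ := e₁.surjective y
  rw [← map_smul, ← map_zero e₁]
  congr 1
  have hmem : y ∈ LinearMap.ker (AlgebraTensorModule.lTensor C C g) := by
    show g.lTensor C y = 0
    apply e₂.injective
    rw [← hcomm, hy, map_zero]
  rw [← hG] at hmem
  clear hy
  induction hmem using Submodule.span_induction with
  | mem x hx =>
    rw [← Finset.prod_erase_mul _ _ (Finset.mem_univ (⟨x, hx⟩ : G)), mul_smul, hsm x hx, smul_zero]
  | zero => rw [smul_zero]
  | add x y _ _ hx hy => rw [smul_add, hx, hy, add_zero]
  | smul c x _ hx => rw [smul_comm, hx, smul_zero]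

/-- The prime of `A` below: `t` making the module flat and fibrewise embedded. -/
theorem exists_good_element {B : Type u} [CommRing B] [Algebra A B]
    [Algebra.FinitePresentation A B] (T : Submonoid B) {N1 N : Type u} [AddCommGroup N1]
    [Module B N1] [Module A N1] [IsScalarTower A B N1] [Module.FinitePresentation B N1]
    [AddCommGroup N] [Module B N] [Module A N] [IsScalarTower A B N] (g : N1 →ₗ[B] N)
    [IsLocalizedModule T g] [Module.Flat A N] (K : Type u) [Field K] [Algebra A K] :
    ∃ t ∈ T, Module.Flat A (LocalizedModule (Submonoid.powers t) N1) ∧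
      ∀ y : N1 ⊗[A] K, AlgebraTensorModule.rTensor A K g y = 0 → t • y = 0 := by
  obtain ⟨t₀, ht₀, hkill⟩ := exists_kill_fibre (A := A) T g K
  obtain ⟨I, hI⟩ := (PrimeSpectrum.isClosed_iff_zeroLocus_ideal _).mp
    (isOpen_flat_locus (R := A) (S := B) (M := N1)).isClosed_compl
  have hT : ¬ Disjoint (I : Set B) (T : Set B) := by
    intro hdis
    obtain ⟨P, hP, hIP, hPT⟩ := Ideal.exists_le_prime_disjoint I T hdis
    haveI := hP
    have h1 : Module.Flat A (LocalizedModule P.primeCompl N1) :=
      flat_localized_of_le T P.primeCompl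
        (fun c hc hcP => Set.disjoint_left.mp hPT hcP hc) g
        (LocalizedModule.mkLinearMap P.primeCompl N1)
    have h2 : (⟨P, hP⟩ : PrimeSpectrum B) ∈ PrimeSpectrum.zeroLocus (I : Set B) := hIP
    rw [← hI] at h2
    exact h2 h1
  obtain ⟨t₁, ht₁I, ht₁T⟩ := Set.not_disjoint_iff.mp hT
  refine ⟨t₀ * t₁, T.mul_mem ht₀ ht₁T, ?_, fun y hy => by rw [mul_comm, mul_smul, hkill y hy, smul_zero]⟩
  refine flat_localized_of_forall_prime (Submonoid.powers (t₀ * t₁))
    (LocalizedModule.mkLinearMap _ N1) fun P hP hdis => ?_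
  have hnot : (⟨P, hP⟩ : PrimeSpectrum B) ∉ PrimeSpectrum.zeroLocus (I : Set B) := fun h =>
    Set.disjoint_left.mp hdis (Submonoid.mem_powers _) (P.mul_mem_left t₀ (h ht₁I))
  rw [← hI, Set.notMem_compl_iff] at hnot
  exact hnot

/-- Elements killed by finitely many scalars come from the torsion. -/
theorem exists_torsion_preimage {N M Q2 : Type u} [AddCommGroup N] [Module A N] [Module.Flat A N]
    [AddCommGroup M] [Module A M] [Module.Flat A M] [AddCommGroup Q2] [Module A Q2] (u : N →ₗ[A] M)
    {r : ℕ} (c : Fin r → A) (z : N ⊗[A] Q2) (hu : u.rTensor Q2 z = 0) (hc : ∀ i, c i • z = 0)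
    (Q3 : Submodule A Q2) (hQ3 : ∀ q, (∀ i, c i • q = 0) → q ∈ Q3)
    (hQ3' : ∀ q ∈ Q3, ∀ i, c i • q = 0) :
    ∃ z₃ : N ⊗[A] Q3, Q3.subtype.lTensor N z₃ = z ∧ u.rTensor Q3 z₃ = 0 := by
  let φ : Q2 →ₗ[A] (Fin r → Q2) := LinearMap.pi fun i => c i • LinearMap.id
  have hex : Function.Exact Q3.subtype φ := fun q => by
    constructor
    · exact fun h => ⟨⟨q, hQ3 q fun i => congrFun h i⟩, rfl⟩
    · rintro ⟨q, rfl⟩
      exact funext fun i => hQ3' _ q.2 i
  have key : ∀ y : N ⊗[A] Q2, TensorProduct.piRight A A N (fun _ : Fin r => Q2) (φ.lTensor N y) =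
      fun i => c i • y := by
    intro y
    induction y using TensorProduct.induction_on with
    | zero => ext; simp
    | tmul n q => ext i; simp [φ]
    | add x y hx hy => rw [map_add, map_add, hx, hy]; ext i; simp
  have h0 : φ.lTensor N z = 0 := by
    apply (TensorProduct.piRight A A N (fun _ : Fin r => Q2)).injective
    rw [key, map_zero]
    exact funext hc
  obtain ⟨z₃, hz₃⟩ := (Module.Flat.lTensor_exact N hex z).mp h0
  refine ⟨z₃, hz₃, Module.Flat.lTensor_preserves_injective_linearMap (M := M) Q3.subtype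
    Q3.subtype_injective ?_⟩
  rw [map_zero, ← LinearMap.comp_apply, LinearMap.lTensor_comp_rTensor,
    ← LinearMap.rTensor_comp_lTensor, LinearMap.comp_apply, hz₃, hu]

/-- The final step at a local Artinian-like quotient. -/
theorem eq_zero_of_local {B : Type u} [CommRing B] [Algebra A B] (T : Submonoid B)
    {F N M Q : Type u} [AddCommGroup F] [Module B F] [Module A F] [IsScalarTower A B F]
    [Module.Flat A F] [AddCommGroup N] [Module B N] [Module A N] [IsScalarTower A B N]
    [AddCommGroup M] [Module A M] [Module.Flat A M] (u : N →ₗ[A] M) (j : F →ₗ[B] N)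
    [AddCommGroup Q] [Module A Q]
    (hj : ∀ n : N ⊗[A] Q, ∃ s ∈ T, ∃ w, AlgebraTensorModule.rTensor A Q j w = s • n)
    (hT : ∀ s ∈ T, IsUnit (algebraMap B (Module.End B N) s))
    {R : Type u} [CommRing R] [IsLocalRing R] [Algebra A R] (J : Ideal R) (hJ : IsNilpotent J)
    [Module.Free (R ⧸ J) ((R ⧸ J) ⊗[A] F)] [Module R Q]
    [IsScalarTower A R Q]
    (hu : Function.Injective (u.lTensor (IsLocalRing.ResidueField R)))
    (hjk : Function.Injective ((j.restrictScalars A).lTensor (IsLocalRing.ResidueField R)))
    (z : N ⊗[A] Q) (hz : u.rTensor Q z = 0) : z = 0 := by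
  obtain ⟨s, hs, w, hw⟩ := hj z
  obtain ⟨c, hc⟩ := hT s hs
  let σ : N →ₗ[A] N := (c⁻¹ : (Module.End B N)ˣ).1.restrictScalars A
  let gs : F →ₗ[A] M := u ∘ₗ σ ∘ₗ j.restrictScalars A
  have hσc : ∀ n : N, σ (s • n) = n := fun n => by
    have h6 : c.1 n = s • n := by rw [hc]; rfl
    show (c⁻¹ : (Module.End B N)ˣ).1 (s • n) = n
    rw [← h6, ← Module.End.mul_apply, Units.inv_mul, Module.End.one_apply]
  have hσ : Function.Injective σ := fun x y hxy => by
    have := congrArg c.1 hxy
    simpa [σ, ← Module.End.mul_apply] using this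
  have hσk : Function.Injective (σ.lTensor (IsLocalRing.ResidueField R)) := by
    have h1 : σ ∘ₗ ((c.1 : Module.End B N).restrictScalars A) = LinearMap.id :=
      LinearMap.ext fun n => by simp [σ, ← Module.End.mul_apply]
    have h2 : ((c.1 : Module.End B N).restrictScalars A) ∘ₗ σ = LinearMap.id :=
      LinearMap.ext fun n => by simp [σ, ← Module.End.mul_apply]
    refine Function.HasLeftInverse.injective
      ⟨((c.1 : Module.End B N).restrictScalars A).lTensor _, fun x => ?_⟩
    rw [← LinearMap.comp_apply, ← LinearMap.lTensor_comp, h2, LinearMap.lTensor_id, LinearMap.id_apply]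
  have hinj : Function.Injective (gs.rTensor Q) := by
    rw [← LinearMap.lTensor_inj_iff_rTensor_inj]
    refine core J hJ gs ?_ Q
    simp only [gs, LinearMap.lTensor_comp, LinearMap.coe_comp]
    exact hu.comp (hσk.comp hjk)
  have hσs : ∀ y : N ⊗[A] Q, σ.rTensor Q (s • y) = y := by
    intro y
    induction y using TensorProduct.induction_on with
    | zero => simp
    | tmul n q => rw [TensorProduct.smul_tmul', LinearMap.rTensor_tmul, hσc]
    | add x y hx hy => simp only [smul_add, map_add, hx, hy]
  have hw0 : w = 0 := by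
    apply hinj
    rw [map_zero]
    show (u ∘ₗ σ ∘ₗ j.restrictScalars A).rTensor Q w = 0
    rw [LinearMap.rTensor_comp, LinearMap.rTensor_comp, LinearMap.comp_apply, LinearMap.comp_apply,
      show (j.restrictScalars A).rTensor Q w = s • z from hw, hσs, hz]
  rw [← hσs z, ← hw, hw0, map_zero, map_zero]

/-- Universal injectivity from injectivity on all fibres. -/
theorem univInj_of_fibres {B : Type u} [CommRing B] [Algebra A B]
    [Algebra.FinitePresentation A B] (T : Submonoid B) {N1 N M : Type u} [AddCommGroup N1]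
    [Module B N1] [Module A N1] [IsScalarTower A B N1] [Module.FinitePresentation B N1]
    [AddCommGroup N] [Module B N] [Module A N] [IsScalarTower A B N] (g : N1 →ₗ[B] N)
    [IsLocalizedModule T g] [Module.Flat A N] [AddCommGroup M] [Module A M] [Module.Flat A M]
    (u : N →ₗ[A] M)
    (h : ∀ (p : Ideal A) [p.IsPrime], Function.Injective (u.lTensor p.ResidueField))
    (Q : Type u) [AddCommGroup Q] [Module A Q] : Function.Injective (u.rTensor Q) := by
  classical
  rw [injective_iff_map_eq_zero]
  intro z hz
  by_contra hne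
  obtain ⟨p, hp, z₂, hz₂, hu₂, hnil⟩ := exists_localized_kernel u hz hne
  obtain ⟨t, ht, hflat, hkill⟩ := exists_good_element (A := A) T g p.ResidueField
  haveI := hflat
  let Bt := Localization.Away t
  let F := LocalizedModule (Submonoid.powers t) N1
  haveI : Algebra.FinitePresentation B Bt := IsLocalization.Away.finitePresentation t
  haveI : Algebra.FinitePresentation A Bt := Algebra.FinitePresentation.trans A B Bt
  haveI : IsScalarTower A Bt F := .of_algebraMap_smul fun a x => by
    rw [IsScalarTower.algebraMap_apply A B Bt, algebraMap_smul, algebraMap_smul]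
  haveI : Module.FinitePresentation Bt F := inferInstance
  obtain ⟨A0, i1, i2, X, i3, i4, hA0, ⟨e⟩⟩ := exists_descended (A := A) Bt F
  let p0 : Ideal A0 := p.comap (algebraMap A0 A)
  let J : Ideal A := p0.map (algebraMap A0 A)
  have hJfg : J.FG := Ideal.FG.map (IsNoetherian.noetherian p0) _
  let ann : Ideal A := LinearMap.ker (LinearMap.toSpanSingleton A _ z₂)
  have hJann : J ≤ ann.radical := fun a ha => by
    obtain ⟨k, hk⟩ := hnil a (Ideal.map_comap_le ha)
    exact ⟨k, hk⟩
  obtain ⟨k, hk⟩ := Ideal.exists_pow_le_of_le_radical_of_fg hJann hJfg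
  obtain ⟨r, c, hc⟩ := Submodule.fg_iff_exists_fin_generating_family.mp (Ideal.FG.pow (n := k + 1) hJfg)
  have hcz : ∀ i, c i • z₂ = 0 := fun i => hk
    (Ideal.pow_le_pow_right k.le_succ (hc ▸ Submodule.subset_span ⟨i, rfl⟩))
  let Ap := Localization.AtPrime p
  let IR : Ideal Ap := (J ^ (k + 1)).map (algebraMap A Ap)
  let Q3' : Submodule Ap (LocalizedModule p.primeCompl Q) := Submodule.torsionBySet Ap _ IR
  let R := Ap ⧸ IR
  have hIR : IR ≤ IsLocalRing.maximalIdeal Ap := by
    refine Ideal.map_le_iff_le_comap.mpr ((Ideal.pow_le_self (Nat.succ_ne_zero k)).trans fun a ha => ?_)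
    exact (IsLocalization.AtPrime.to_map_mem_maximal_iff Ap p a).mpr (Ideal.map_comap_le ha)
  haveI : Nontrivial R := Ideal.Quotient.nontrivial_iff.mpr fun hh =>
    (IsLocalRing.maximalIdeal.isMaximal Ap).ne_top (top_le_iff.mp (hh ▸ hIR))
  haveI : IsLocalRing R := IsLocalRing.of_surjective' (Ideal.Quotient.mk IR) Ideal.Quotient.mk_surjective
  haveI : IsLocalHom (Ideal.Quotient.mk IR) :=
    Function.Surjective.isLocalHom _ Ideal.Quotient.mk_surjective
  letI : Module R Q3' := (Submodule.torsionBySet_isTorsionBySet (R := Ap)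
    (M := LocalizedModule p.primeCompl Q) (IR : Set Ap)).module
  haveI : IsScalarTower A R Q3' := IsScalarTower.of_algebraMap_smul (A := R) fun a (q : Q3') => by
    show algebraMap A Ap a • q = a • q
    rw [algebraMap_smul]
  obtain ⟨z₃, hz₃, hu₃⟩ := exists_torsion_preimage u c z₂ hu₂ hcz (Q3'.restrictScalars A)
    (fun q hq => by
      rw [Submodule.restrictScalars_mem, Submodule.mem_torsionBySet_iff]
      rintro ⟨a, ha⟩
      show a • q = 0
      induction ha using Submodule.span_induction with
      | mem x hx =>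
        obtain ⟨y, hy, rfl⟩ := hx
        rw [← hc] at hy
        rw [algebraMap_smul]
        induction hy using Submodule.span_induction with
        | mem x hx =>
          obtain ⟨i, rfl⟩ := hx
          exact hq i
        | zero => rw [zero_smul]
        | add x y _ _ hx hy => rw [add_smul, hx, hy, add_zero]
        | smul b x _ hx => rw [smul_eq_mul, mul_smul, hx, smul_zero]
      | zero => rw [zero_smul]
      | add x y _ _ hx hy => rw [add_smul, hx, hy, add_zero]
      | smul b x _ hx => rw [smul_eq_mul, mul_smul, hx, smul_zero])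
    (fun q hq i => by
      rw [Submodule.restrictScalars_mem, Submodule.mem_torsionBySet_iff] at hq
      have := hq ⟨algebraMap A Ap (c i), Ideal.mem_map_of_mem _ (hc ▸ Submodule.subset_span ⟨i, rfl⟩)⟩
      rwa [← algebraMap_smul Ap (c i) q])
  refine hz₂ ?_
  let JR : Ideal R := J.map (algebraMap A R)
  have hJR : IsNilpotent JR := ⟨k + 1, by
    rw [← Ideal.map_pow, Submodule.zero_eq_bot, Ideal.map_eq_bot_iff_le_ker]
    exact fun a ha => Ideal.Quotient.eq_zero_iff_mem.mpr (Ideal.mem_map_of_mem _ ha)⟩
  haveI : Module.Free (R ⧸ JR) ((R ⧸ JR) ⊗[A] F) :=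
    free_tensor_of_factor e p0 (R ⧸ JR)
      (fun a ha => by
        rw [IsScalarTower.algebraMap_apply A0 A (R ⧸ JR), IsScalarTower.algebraMap_apply A R (R ⧸ JR)]
        exact Ideal.Quotient.eq_zero_iff_mem.mpr
          (Ideal.mem_map_of_mem _ (Ideal.mem_map_of_mem _ ha)))
      (fun a ha => by
        rw [IsScalarTower.algebraMap_apply A0 A (R ⧸ JR)]
        exact ((IsLocalization.map_units Ap (⟨algebraMap A0 A a, ha⟩ : p.primeCompl)).map
          (Ideal.Quotient.mk IR)).map (Ideal.Quotient.mk JR))
  have hTu : ∀ s ∈ T, IsUnit (algebraMap B (Module.End B N) s) := fun s hs =>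
    IsLocalizedModule.map_units g ⟨s, hs⟩
  let j : F →ₗ[B] N := LocalizedModule.lift (Submonoid.powers t) g fun x =>
    hTu _ ((Submonoid.powers_le.mpr ht) x.2)
  have hjmk : ∀ m, j (LocalizedModule.mk m 1) = g m := fun m => by
    apply LocalizedModule.lift_mk_one
  have hjQ : ∀ (P : Type u) [AddCommGroup P] [Module A P] (y : N1 ⊗[A] P),
      AlgebraTensorModule.rTensor A P j (AlgebraTensorModule.rTensor A P
        (LocalizedModule.mkLinearMap (Submonoid.powers t) N1) y) =
      AlgebraTensorModule.rTensor A P g y := by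
    intro P _ _ y
    induction y using TensorProduct.induction_on with
    | zero => simp
    | tmul m x => simp [hjmk]
    | add x y hx hy => simp only [map_add, hx, hy]
  have hj : ∀ n : N ⊗[A] Q3', ∃ s ∈ T, ∃ w,
      AlgebraTensorModule.rTensor A Q3' j w = s • n := by
    intro n
    obtain ⟨⟨w₁, s⟩, hw⟩ := IsLocalizedModule.surj T (AlgebraTensorModule.rTensor A Q3' g) n
    exact ⟨s.1, s.2, _, (hjQ _ w₁).trans hw.symm⟩
  have hjp : Function.Injective ((j.restrictScalars A).rTensor p.ResidueField) := by
    rw [injective_iff_map_eq_zero]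
    intro y hy
    let mkK := AlgebraTensorModule.rTensor A p.ResidueField
      (LocalizedModule.mkLinearMap (Submonoid.powers t) N1)
    obtain ⟨⟨x, s⟩, hx⟩ := IsLocalizedModule.surj (Submonoid.powers t) mkK y
    have h1 : AlgebraTensorModule.rTensor A p.ResidueField g x = 0 := by
      rw [← hjQ, show mkK x = s • y from hx.symm, Submonoid.smul_def, map_smul,
        show AlgebraTensorModule.rTensor A p.ResidueField j y = 0 from hy, smul_zero]
    have h2 := congrArg mkK (hkill x h1)
    rw [map_zero, map_smul, show mkK x = s • y from hx.symm, Submonoid.smul_def, smul_smul] at h2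
    have hu := IsLocalizedModule.map_units mkK
      ⟨t * s.1, Submonoid.mul_mem _ (Submonoid.mem_powers t) s.2⟩
    apply ((Module.End.isUnit_iff _).mp hu).1
    rw [map_zero]
    exact h2
  let θ : IsLocalRing.ResidueField Ap →ₐ[A] IsLocalRing.ResidueField R :=
    { IsLocalRing.ResidueField.map (Ideal.Quotient.mk IR) with
      commutes' := fun a => rfl }
  have hθ : Function.Bijective θ := by
    refine ⟨RingHom.injective _, fun y => ?_⟩
    obtain ⟨y, rfl⟩ := IsLocalRing.residue_surjective y
    obtain ⟨y, rfl⟩ := Ideal.Quotient.mk_surjective y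
    exact ⟨IsLocalRing.residue Ap y, rfl⟩
  let ε : p.ResidueField ≃ₗ[A] IsLocalRing.ResidueField R := (AlgEquiv.ofBijective θ hθ).toLinearEquiv
  have conv : ∀ {P P' : Type u} [AddCommGroup P] [Module A P] [AddCommGroup P'] [Module A P']
      (f : P →ₗ[A] P'), Function.Injective (f.lTensor p.ResidueField) →
      Function.Injective (f.lTensor (IsLocalRing.ResidueField R)) := by
    intro P P' _ _ _ _ f hf x y hxy
    apply (LinearEquiv.rTensor P ε.symm).injective
    apply hf
    have key : ∀ x, f.lTensor p.ResidueField (LinearEquiv.rTensor P ε.symm x) =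
        LinearEquiv.rTensor P' ε.symm (f.lTensor _ x) := by
      intro x
      induction x using TensorProduct.induction_on with
      | zero => simp
      | tmul a b => simp
      | add x y hx hy => simp only [map_add, hx, hy]
    rw [key, key, hxy]
  have h0 : (z₃ : N ⊗[A] Q3') = 0 :=
    eq_zero_of_local (R := R) T u j hj hTu JR hJR (conv u (h p))
      (conv _ ((LinearMap.lTensor_inj_iff_rTensor_inj _ _).mpr hjp)) z₃ hu₃
  rw [← hz₃]
  exact (congrArg _ h0).trans (map_zero _)

end Groth.Agent.UnivInjFib
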